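import Cfsg.Agent.Lib.KnownSimple.PSL2ClassSizes
import Cfsg.Agent.Lib.Classical.SL2Quat
import Mathlib.FieldTheory.IsAlgClosed.AlgebraicClosure

/-!
# Centralizers in two-dimensional projective special linear groups of odd order fields
-/

set_option autoImplicit false

namespace CfsgLib.PGroup.SelfCentSimple

open Matrix
open CfsgLib.SL2Table CfsgLib.Spectrum CfsgLib.KnownSimple.OddClassSizes

variable {F : Type*} [Field F] [Fintype F]

local notation "S" => Matrix.SpecialLinearGroup (Fin 2) F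
local notation "P" => Matrix.ProjectiveSpecialLinearGroup (Fin 2) F

theorem two_card_psl (h2 : (2 : F) ≠ 0) :
    2 * Nat.card P = Fintype.card F * (Fintype.card F ^ 2 - 1) := by
  rw [CfsgLib.Classical.SL2Q.two_mul_card_PSL h2, card_sl_two]

theorem card_centralizer_invol (h2 : (2 : F) ≠ 0) {x : P} (hx : orderOf x = 2) :
    Nat.card (Subgroup.centralizer ({x} : Set P)) =
      if Fintype.card F % 4 = 3 then Fintype.card F + 1 else Fintype.card F - 1 := by
  rw [← CfsgLib.Classical.SL2Q.card_torus_eq h2, ← CfsgLib.Classical.SL2Q.card_centralizer_proj_wM h2]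
  obtain ⟨g, hg⟩ := CfsgLib.Classical.SL2Q.involution_conj h2 hx
  refine Nat.card_congr ((MulAut.conj g⁻¹).toEquiv.subtypeEquiv fun y => ?_)
  simp only [Subgroup.mem_centralizer_singleton_iff, MulEquiv.toEquiv_eq_coe, EquivLike.coe_coe,
    MulAut.conj_apply, inv_inv]
  rw [← hg]
  constructor <;> intro h
  · exact mul_left_cancel (a := g) (mul_right_cancel (b := g⁻¹) (by simpa [mul_assoc] using h))
  · simpa [mul_assoc] using congrArg (fun z => g * z * g⁻¹) h

omit [Fintype F] in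
/-- The centralizer of a matrix with two distinct eigenvalues is cyclic. -/
theorem isCyclic_centralizer_semisimple [Finite F] (h2 : (2 : F) ≠ 0) (g : S)
    (hd : (g : Matrix (Fin 2) (Fin 2) F).trace / 2 * ((g : Matrix (Fin 2) (Fin 2) F).trace / 2) ≠ 1) :
    IsCyclic (Subgroup.centralizer ({g} : Set S)) := by
  let ι := algebraMap F (AlgebraicClosure F)
  have hdet : (g : Matrix (Fin 2) (Fin 2) F) 0 0 * (g : Matrix (Fin 2) (Fin 2) F) 1 1 - (g : Matrix (Fin 2) (Fin 2) F) 0 1 * (g : Matrix (Fin 2) (Fin 2) F) 1 0 = 1 := by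
    have h := g.det_coe; rwa [det_fin_two] at h
  have hdisc : ((g : Matrix (Fin 2) (Fin 2) F) 0 0 - (g : Matrix (Fin 2) (Fin 2) F) 1 1) * ((g : Matrix (Fin 2) (Fin 2) F) 0 0 - (g : Matrix (Fin 2) (Fin 2) F) 1 1) + 4 * ((g : Matrix (Fin 2) (Fin 2) F) 0 1 * (g : Matrix (Fin 2) (Fin 2) F) 1 0) ≠ 0 := fun h => hd (by
    rw [trace_fin_two]
    field_simp
    linear_combination h + 4 * hdet)
  obtain ⟨μ, hμ⟩ : ∃ μ : AlgebraicClosure F,
      ι ((g : Matrix (Fin 2) (Fin 2) F) 1 0) * μ * μ + (ι ((g : Matrix (Fin 2) (Fin 2) F) 0 0) - ι ((g : Matrix (Fin 2) (Fin 2) F) 1 1)) * μ - ι ((g : Matrix (Fin 2) (Fin 2) F) 0 1) = 0 := by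
    have hdeg : (Polynomial.C (ι ((g : Matrix (Fin 2) (Fin 2) F) 1 0)) * Polynomial.X ^ 2 +
        Polynomial.C (ι ((g : Matrix (Fin 2) (Fin 2) F) 0 0) - ι ((g : Matrix (Fin 2) (Fin 2) F) 1 1)) * Polynomial.X +
        Polynomial.C (-ι ((g : Matrix (Fin 2) (Fin 2) F) 0 1))).degree ≠ 0 := by
      by_cases hc : (g : Matrix (Fin 2) (Fin 2) F) 1 0 = 0
      · have hne : ι ((g : Matrix (Fin 2) (Fin 2) F) 0 0) - ι ((g : Matrix (Fin 2) (Fin 2) F) 1 1) ≠ 0 := fun e => hdisc (by
          have e' : (g : Matrix (Fin 2) (Fin 2) F) 0 0 - (g : Matrix (Fin 2) (Fin 2) F) 1 1 = 0 := ι.injective (by rw [map_sub, map_zero]; exact e)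
          rw [e', hc]; ring)
        rw [hc, map_zero, map_zero, zero_mul, zero_add, Polynomial.degree_linear hne]
        exact one_ne_zero
      · rw [Polynomial.degree_quadratic (fun e => hc (ι.injective (e.trans (map_zero ι).symm)))]
        exact two_ne_zero
    obtain ⟨μ, hμ⟩ := IsAlgClosed.exists_root _ hdeg
    exact ⟨μ, by simp [Polynomial.IsRoot] at hμ; linear_combination hμ⟩
  have hder : 2 * ι ((g : Matrix (Fin 2) (Fin 2) F) 1 0) * μ + (ι ((g : Matrix (Fin 2) (Fin 2) F) 0 0) - ι ((g : Matrix (Fin 2) (Fin 2) F) 1 1)) ≠ 0 := fun e => hdisc (ι.injective (by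
    rw [map_zero, map_add, map_mul, map_mul, map_mul, map_sub, map_ofNat]
    linear_combination (2 * ι ((g : Matrix (Fin 2) (Fin 2) F) 1 0) * μ + (ι ((g : Matrix (Fin 2) (Fin 2) F) 0 0) - ι ((g : Matrix (Fin 2) (Fin 2) F) 1 1))) * e - 4 * ι ((g : Matrix (Fin 2) (Fin 2) F) 1 0) * hμ))
  have heig : ∀ A : Subgroup.centralizer ({g} : Set S),
      ι (((A : S) : Matrix (Fin 2) (Fin 2) F) 0 1) + μ * ι (((A : S) : Matrix (Fin 2) (Fin 2) F) 1 1) = μ * (ι (((A : S) : Matrix (Fin 2) (Fin 2) F) 0 0) + μ * ι (((A : S) : Matrix (Fin 2) (Fin 2) F) 1 0)) ∧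
      ι (((A : S) : Matrix (Fin 2) (Fin 2) F) 1 0) * (ι ((g : Matrix (Fin 2) (Fin 2) F) 0 0) - ι ((g : Matrix (Fin 2) (Fin 2) F) 1 1)) =
        (ι (((A : S) : Matrix (Fin 2) (Fin 2) F) 0 0) - ι (((A : S) : Matrix (Fin 2) (Fin 2) F) 1 1)) * ι ((g : Matrix (Fin 2) (Fin 2) F) 1 0) := by
    intro A
    have h : ((A : S) : Matrix (Fin 2) (Fin 2) F) * (g : Matrix (Fin 2) (Fin 2) F) =
        (g : Matrix (Fin 2) (Fin 2) F) * ((A : S) : Matrix (Fin 2) (Fin 2) F) :=
      congrArg (fun z : S => (z : Matrix (Fin 2) (Fin 2) F)) (Subgroup.mem_centralizer_singleton_iff.1 A.2)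
    have e00 := congrArg ι (congrFun (congrFun h 0) 0)
    have e01 := congrArg ι (congrFun (congrFun h 0) 1)
    have e10 := congrArg ι (congrFun (congrFun h 1) 0)
    simp only [Matrix.mul_apply, Fin.sum_univ_two, map_add, map_mul] at e00 e01 e10
    refine ⟨?_, by linear_combination e10⟩
    by_cases hc : (g : Matrix (Fin 2) (Fin 2) F) 1 0 = 0
    · have hne : ι ((g : Matrix (Fin 2) (Fin 2) F) 0 0) - ι ((g : Matrix (Fin 2) (Fin 2) F) 1 1) ≠ 0 := fun e => hdisc (by
        have e' : (g : Matrix (Fin 2) (Fin 2) F) 0 0 - (g : Matrix (Fin 2) (Fin 2) F) 1 1 = 0 := ι.injective (by rw [map_sub, map_zero]; exact e)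
        rw [e', hc]; ring)
      refine mul_left_cancel₀ hne ?_
      linear_combination (-μ * μ) * e10 + (-1 : AlgebraicClosure F) * e01 +
        (-(ι (((A : S) : Matrix (Fin 2) (Fin 2) F) 0 0) - ι (((A : S) : Matrix (Fin 2) (Fin 2) F) 1 1))) * hμ
    · refine mul_left_cancel₀ (fun e => hc (ι.injective (e.trans (map_zero ι).symm)) : ι ((g : Matrix (Fin 2) (Fin 2) F) 1 0) ≠ 0) ?_
      linear_combination μ * e10 + e00 - ι (((A : S) : Matrix (Fin 2) (Fin 2) F) 1 0) * hμ
  let φ : Subgroup.centralizer ({g} : Set S) →* AlgebraicClosure F :=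
    { toFun := fun A => ι (((A : S) : Matrix (Fin 2) (Fin 2) F) 0 0) + μ * ι (((A : S) : Matrix (Fin 2) (Fin 2) F) 1 0)
      map_one' := by simp
      map_mul' := fun A B => by
        show ι ((((A : S) : Matrix (Fin 2) (Fin 2) F) * ((B : S) : Matrix (Fin 2) (Fin 2) F)) 0 0) +
          μ * ι ((((A : S) : Matrix (Fin 2) (Fin 2) F) * ((B : S) : Matrix (Fin 2) (Fin 2) F)) 1 0) = _
        simp only [Matrix.mul_apply, Fin.sum_univ_two, map_add, map_mul]
        linear_combination ι (((B : S) : Matrix (Fin 2) (Fin 2) F) 1 0) * (heig A).1 }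
  refine isCyclic_of_injective_ringHom φ fun A B hAB => ?_
  have key : ∀ C : Subgroup.centralizer ({g} : Set S), φ C = 1 → C = 1 := by
    intro C hC
    obtain ⟨h1, h3⟩ := heig C
    change ι (((C : S) : Matrix (Fin 2) (Fin 2) F) 0 0) + μ * ι (((C : S) : Matrix (Fin 2) (Fin 2) F) 1 0) = 1 at hC
    rw [hC, mul_one] at h1
    have hdC : ι (((C : S) : Matrix (Fin 2) (Fin 2) F) 0 0) * ι (((C : S) : Matrix (Fin 2) (Fin 2) F) 1 1) - ι (((C : S) : Matrix (Fin 2) (Fin 2) F) 0 1) * ι (((C : S) : Matrix (Fin 2) (Fin 2) F) 1 0) = 1 := by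
      rw [← map_mul, ← map_mul, ← map_sub, ← det_fin_two ((C : S) : Matrix (Fin 2) (Fin 2) F), (C : S).det_coe, map_one]
    have h11 : ι (((C : S) : Matrix (Fin 2) (Fin 2) F) 1 1) = 1 + μ * ι (((C : S) : Matrix (Fin 2) (Fin 2) F) 1 0) := by
      linear_combination hdC - ι (((C : S) : Matrix (Fin 2) (Fin 2) F) 1 1) * hC + ι (((C : S) : Matrix (Fin 2) (Fin 2) F) 1 0) * h1
    have h10 : ι (((C : S) : Matrix (Fin 2) (Fin 2) F) 1 0) = 0 := by
      refine (mul_eq_zero.1 (show ι (((C : S) : Matrix (Fin 2) (Fin 2) F) 1 0) *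
        (2 * ι ((g : Matrix (Fin 2) (Fin 2) F) 1 0) * μ + (ι ((g : Matrix (Fin 2) (Fin 2) F) 0 0) - ι ((g : Matrix (Fin 2) (Fin 2) F) 1 1))) = 0 from ?_)).resolve_right hder
      linear_combination h3 + ι ((g : Matrix (Fin 2) (Fin 2) F) 1 0) * (hC - h11)
    rw [h10, mul_zero, add_zero] at hC h11
    rw [h11, mul_one, add_eq_right] at h1
    refine Subtype.ext (Subtype.ext ?_)
    ext i j
    refine ι.injective ?_
    fin_cases i <;> fin_cases j <;> simp [hC, h1, h10, h11]
  exact inv_mul_eq_one.1 (key (A⁻¹ * B) (by rw [map_mul, ← hAB, ← map_mul, inv_mul_cancel, map_one]))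

theorem cyclic_or_card_eq (h2 : (2 : F) ≠ 0) {c : P} (hc : c ≠ 1)
    (hodd : Odd (Nat.card (Subgroup.centralizer ({c} : Set P)))) :
    IsCyclic (Subgroup.centralizer ({c} : Set P)) ∨
      Nat.card (Subgroup.centralizer ({c} : Set P)) = Fintype.card F := by
  obtain ⟨g, rfl⟩ := CfsgLib.Classical.SL2Q.proj_surjective c
  have hns : NonScalar (g : Matrix (Fin 2) (Fin 2) F) := by
    rintro ⟨a, ha⟩
    refine hc ((QuotientGroup.eq_one_iff g).2 (Subgroup.mem_center_iff.2 fun y => Subtype.ext ?_))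
    show (y : Matrix (Fin 2) (Fin 2) F) * (g : Matrix (Fin 2) (Fin 2) F) =
      (g : Matrix (Fin 2) (Fin 2) F) * (y : Matrix (Fin 2) (Fin 2) F)
    rw [ha]
    simp
  have ht : (g : Matrix (Fin 2) (Fin 2) F).trace ≠ 0 := fun ht => by
    rw [trace_fin_two] at ht
    have h1 := CfsgLib.Classical.SL2Q.orderOf_proj_of_trace h2 ht
    have h3 : CfsgLib.Classical.SL2Q.proj g ∈
        Subgroup.centralizer ({CfsgLib.Classical.SL2Q.proj g} : Set P) :=
      Subgroup.mem_centralizer_singleton_iff.2 rfl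
    have h4 := orderOf_dvd_natCard (⟨_, h3⟩ : Subgroup.centralizer ({CfsgLib.Classical.SL2Q.proj g} : Set P))
    rw [Subgroup.orderOf_mk, h1] at h4
    exact Nat.not_even_iff_odd.2 hodd (even_iff_two_dvd.2 h4)
  by_cases hd : (g : Matrix (Fin 2) (Fin 2) F).trace / 2 * ((g : Matrix (Fin 2) (Fin 2) F).trace / 2) = 1
  · right
    have h := index_of_trace_ne_zero h2 hns ht
    rw [cnt_zero_disc h2 hd, ← two_card_psl h2,
      ← Subgroup.card_mul_index (Subgroup.centralizer ({CfsgLib.Classical.SL2Q.proj g} : Set P))] at h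
    have hi : 0 < (Subgroup.centralizer ({CfsgLib.Classical.SL2Q.proj g} : Set P)).index :=
      Nat.pos_of_ne_zero Subgroup.index_ne_zero_of_finite
    change (Subgroup.centralizer ({CfsgLib.Classical.SL2Q.proj g} : Set P)).index *
      (2 * Fintype.card F) = _ at h
    refine Nat.eq_of_mul_eq_mul_left (show 0 < 2 * _ from Nat.mul_pos two_pos hi) ?_
    linear_combination h.symm
  · left
    haveI := isCyclic_centralizer_semisimple h2 g hd
    have hcm : (Subgroup.centralizer ({CfsgLib.Classical.SL2Q.proj g} : Set P)).comap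
        CfsgLib.Classical.SL2Q.proj = Subgroup.centralizer ({g} : Set S) := by
      ext x
      rw [Subgroup.mem_comap, Subgroup.mem_centralizer_singleton_iff,
        Subgroup.mem_centralizer_singleton_iff, ← map_mul, ← map_mul]
      refine ⟨fun h => ?_, fun h => by rw [h]⟩
      rcases CfsgLib.Classical.SL2Q.proj_eq_iff.1 h with e | e
      · exact e
      · exfalso
        apply ht
        have h1 : g = x⁻¹ * (CfsgLib.Fusion.PSL2.negOne * (g * x)) := by rw [← e, inv_mul_cancel_left]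
        rw [← mul_assoc x⁻¹, ← CfsgLib.Classical.SL2Q.negOne_comm, mul_assoc, ← mul_assoc x⁻¹] at h1
        have h3 := congrArg (fun B : S => (B : Matrix (Fin 2) (Fin 2) F).trace) h1
        simp only [Matrix.SpecialLinearGroup.coe_mul, CfsgLib.Classical.SL2Q.negOne_coe,
          neg_one_mul, Matrix.trace_neg] at h3
        rw [Matrix.trace_mul_cycle, ← Matrix.SpecialLinearGroup.coe_mul, mul_inv_cancel,
          Matrix.SpecialLinearGroup.coe_one, one_mul] at h3
        exact (mul_eq_zero.1 (show (2 : F) * (g : Matrix (Fin 2) (Fin 2) F).trace = 0 by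
          linear_combination h3)).resolve_left h2
    rw [← Subgroup.map_comap_eq_self_of_surjective CfsgLib.Classical.SL2Q.proj_surjective
      (Subgroup.centralizer ({CfsgLib.Classical.SL2Q.proj g} : Set P)), hcm]
    exact isCyclic_of_surjective _
      (MonoidHom.subgroupMap_surjective CfsgLib.Classical.SL2Q.proj (Subgroup.centralizer ({g} : Set S)))

end CfsgLib.PGroup.SelfCentSimple
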