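import Cfsg.Agent.Lib.PGroup.SelfCentSimple.Local

/-!
# Simple groups in which non-cyclic subgroups are self-centralising: fusion
-/

set_option autoImplicit false

namespace CfsgLib.PGroup.SelfCentSimple

open Subgroup
open scoped commutatorElement

variable {G : Type*} [Group G] [Finite G] [IsSimpleGroup G]

omit [Finite G] in
theorem no_index_two_of_simple (hna : ¬ IsMulCommutative G) (M : Subgroup G) (hM : M.Normal) :
    M.index ≠ 2 := by
  intro h
  rcases hM.eq_bot_or_eq_top with rfl | rfl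
  · rw [Subgroup.index_bot] at h
    haveI : Fact (Nat.Prime 2) := ⟨Nat.prime_two⟩
    haveI := isCyclic_of_prime_card h
    exact hna ⟨⟨(IsCyclic.commGroup (α := G)).mul_comm⟩⟩
  · rw [Subgroup.index_top] at h
    omega

theorem focal_eq_of_simple (hna : ¬ IsMulCommutative G) (p : ℕ) [Fact p.Prime] (P : Sylow p G) :
    (P : Subgroup G).focalSubgroup = (P : Subgroup G) := by
  refine le_antisymm (Subgroup.focalSubgroup_le _) ?_
  rw [← Subgroup.ker_transferFocal_inf_eq_focalSubgroup P]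
  refine le_inf ?_ le_rfl
  rcases (MonoidHom.normal_ker (P : Subgroup G).transferFocal).eq_bot_or_eq_top with h | h
  · exfalso
    refine hna ⟨⟨fun a b => (MonoidHom.ker_eq_bot_iff _).1 h ?_⟩⟩
    rw [map_mul, map_mul]
    exact IsMulCommutative.is_comm.comm _ _
  · rw [h]; exact le_top

namespace Ctx

variable {S : Sylow 2 G} {c t v : G}

theorem inv_conj_t (X : Ctx S c t v) (hna : ¬ IsMulCommutative G) {x : G} (hx : orderOf x = 2) :
    ∃ g : G, g * x * g⁻¹ = t := by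
  haveI : Fact (Nat.Prime 2) := ⟨Nat.prime_two⟩
  have hp : IsPGroup 2 (Subgroup.zpowers x) :=
    IsPGroup.of_card (n := 1) (by rw [Nat.card_zpowers, hx, pow_one])
  obtain ⟨T, hT⟩ := hp.exists_le_sylow
  obtain ⟨g, hg⟩ := MulAction.exists_smul_eq G T S
  have hy : g * x * g⁻¹ ∈ (S : Subgroup G) := by
    rw [← hg, Sylow.coe_subgroup_smul]
    exact Subgroup.mem_map.2 ⟨x, hT (Subgroup.mem_zpowers x), rfl⟩
  have hy2 : orderOf (g * x * g⁻¹) = 2 := (CfsgLib.Invol.orderOf_conj_eq g x).trans hx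
  by_cases hc : g * x * g⁻¹ ∈ Subgroup.zpowers c
  · exact ⟨g, X.invol_eq hc hy2⟩
  · have hri : (Subgroup.zpowers c).relIndex (S : Subgroup G) = 2 := by
      rw [Subgroup.relIndex]
      refine Subgroup.index_eq_two_iff.2 ⟨⟨v, X.vS⟩, fun b => ?_⟩
      rw [Subgroup.mem_subgroupOf, Subgroup.mem_subgroupOf, Subgroup.coe_mul]
      by_cases hb : (b : G) ∈ Subgroup.zpowers c
      · refine Or.inr ⟨hb, fun h => X.vc ?_⟩
        have h1 := mul_mem (inv_mem hb) h
        rwa [inv_mul_cancel_left] at h1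
      · refine Or.inl ⟨?_, hb⟩
        have h1 := (X.split b b.2).resolve_left hb
        rwa [X.v_inv] at h1
    rcases Cfsg.Agent.S0111.result S _ X.zpowers_le hri _ hy2 hy hc with ⟨M, hMn, hMi, -⟩ | ⟨k, hk⟩
    · exact absurd hMi (no_index_two_of_simple hna M hMn)
    · refine ⟨k * g, X.invol_eq ?_ ((CfsgLib.Invol.orderOf_conj_eq _ x).trans hx)⟩
      rwa [show k * g * x * (k * g)⁻¹ = k * (g * x * g⁻¹) * k⁻¹ by group]

theorem commutator_mem_of_index_two {K : Type*} [Group K] {M : Subgroup K} (h : M.index = 2)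
    (a b : K) : ⁅a, b⁆ ∈ M := by
  rw [commutatorElement_def]
  simp only [Subgroup.mul_mem_iff_of_index_two h, inv_mem_iff]
  tauto

theorem sq_mem_c (X : Ctx S c t v) (hB : v * c * v⁻¹ = c⁻¹ * t) {y : G} (hy : y ∈ (S : Subgroup G)) :
    y * y ∈ Subgroup.zpowers c := by
  rcases X.split y hy with h1 | ⟨i, hi⟩
  · exact mul_mem h1 h1
  · simp only at hi
    have hye : y = c ^ i * v := by rw [hi, inv_mul_cancel_right]
    rw [hye, X.semi_sq hB]
    exact zpow_mem X.tc i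

theorem pow_half_eq_t (X : Ctx S c t v) (hB : v * c * v⁻¹ = c⁻¹ * t) {y : G} (hy : y ∈ (S : Subgroup G))
    (hy2 : y * y ≠ 1) : ∃ k : ℕ, orderOf y = 4 * k ∧ y ^ (2 * k) = t := by
  haveI : Fact (Nat.Prime 2) := ⟨Nat.prime_two⟩
  obtain ⟨n, hn⟩ := IsPGroup.iff_orderOf.1 S.2 ⟨y, hy⟩
  rw [Subgroup.orderOf_mk] at hn
  obtain ⟨m, rfl⟩ : ∃ m, n = m + 2 := ⟨n - 2, by
    by_contra h
    refine hy2 ?_
    rw [← pow_two, ← orderOf_dvd_iff_pow_eq_one, hn]
    exact (pow_dvd_pow 2 (show n ≤ 1 by omega)).trans (dvd_of_eq (pow_one 2))⟩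
  refine ⟨2 ^ m, by rw [hn, pow_succ, pow_succ]; ring, X.invol_eq ?_ ?_⟩
  · rw [pow_mul, pow_two]
    exact pow_mem (X.sq_mem_c hB hy) _
  · rw [orderOf_pow_of_dvd (by positivity) ⟨2, by rw [hn, pow_succ, pow_succ]; ring⟩, hn,
      show 2 ^ (m + 2) = 2 * (2 * 2 ^ m) by rw [pow_succ, pow_succ]; ring]
    exact Nat.mul_div_cancel _ (by positivity)

theorem not_semidihedral (X : Ctx S c t v) (hSC : SelfCentNoncyclic G) (hna : ¬ IsMulCommutative G)
    (hB : v * c * v⁻¹ = c⁻¹ * t) : False := by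
  haveI : Fact (Nat.Prime 2) := ⟨Nat.prime_two⟩
  have ht2 : t ^ (2 : ℤ) = 1 := by
    rw [show (2 : ℤ) = ((2 : ℕ) : ℤ) from rfl, zpow_natCast, pow_two, X.t_sq]
  set M := Subgroup.zpowers (c ^ (2 : ℤ)) ⊔ Subgroup.zpowers v with hMdef
  have hMS : M ≤ (S : Subgroup G) :=
    sup_le (Subgroup.zpowers_le.2 (zpow_mem X.cS 2)) (Subgroup.zpowers_le.2 X.vS)
  have hn : Subgroup.zpowers v ≤ Subgroup.normalizer (Subgroup.zpowers (c ^ (2 : ℤ)) : Set G) := by
    refine Subgroup.zpowers_le.2 ?_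
    have key : ∀ y ∈ Subgroup.zpowers (c ^ (2 : ℤ)), v * y * v⁻¹ ∈ Subgroup.zpowers (c ^ (2 : ℤ)) := by
      rintro _ ⟨i, rfl⟩
      exact ⟨-i, by simp only; rw [← conj_zpow, X.semi_inv hB, inv_zpow, zpow_neg]⟩
    refine Subgroup.mem_normalizer_iff.2 fun y => ⟨key y, fun hy => ?_⟩
    have h1 := key _ hy
    rwa [show v * (v * y * v⁻¹) * v⁻¹ = (v * v) * y * (v * v)⁻¹ by group, X.v_sq, one_mul, inv_one,
      mul_one] at h1
  have hpar : ∀ i : ℤ, (c ^ i ∈ M ↔ Even i) := by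
    intro i
    refine ⟨fun h => ?_, fun ⟨k, hk⟩ => Subgroup.mem_sup_left ⟨k, by simp only; rw [← zpow_mul, hk, two_mul]⟩⟩
    rw [← SetLike.mem_coe, hMdef, Subgroup.coe_mul_of_right_le_normalizer_left _ _ hn] at h
    obtain ⟨_, ⟨k, rfl⟩, b, ⟨l, rfl⟩, hab⟩ := h
    simp only at hab
    have hvl : v ^ l = 1 := by
      obtain ⟨m, rfl | rfl⟩ := Int.even_or_odd' l
      · rw [zpow_mul, show v ^ (2 : ℤ) = 1 by
          rw [show (2 : ℤ) = ((2 : ℕ) : ℤ) from rfl, zpow_natCast, pow_two, X.v_sq], one_zpow]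
      · exfalso
        rw [zpow_add, zpow_mul, show v ^ (2 : ℤ) = 1 by
          rw [show (2 : ℤ) = ((2 : ℕ) : ℤ) from rfl, zpow_natCast, pow_two, X.v_sq], one_zpow, one_mul,
          zpow_one, ← zpow_mul, ← eq_inv_mul_iff_mul_eq] at hab
        exact X.vc (hab ▸ mul_mem (inv_mem (zpow_mem (Subgroup.mem_zpowers c) _))
          (zpow_mem (Subgroup.mem_zpowers c) _))
    rw [hvl, mul_one, ← zpow_mul] at hab
    -- `c` has even order
    have h2 : (2 : ℤ) ∣ (orderOf c : ℤ) := by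
      exact_mod_cast X.ot ▸ orderOf_dvd_of_mem_zpowers X.tc
    have h3 : (orderOf c : ℤ) ∣ i - 2 * k := orderOf_dvd_iff_zpow_eq_one.2 (by
      rw [zpow_sub, ← hab, mul_inv_cancel])
    have h4 := h2.trans h3
    exact even_iff_two_dvd.2 ((dvd_sub_left ⟨k, rfl⟩).1 h4)
  have hvM : v ∈ M := Subgroup.mem_sup_right (Subgroup.mem_zpowers v)
  have htM : t ∈ M := Subgroup.mem_sup_left (X.semi_t hB)
  have hodd_not : ∀ {a : G}, c * a ∈ M → a ∈ M → False := fun {a} h1 h2 => by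
    have h3 := mul_mem h1 (inv_mem h2)
    rw [mul_inv_cancel_right] at h3
    exact absurd ((hpar 1).1 (by rwa [zpow_one])) (by decide)
  have hidx : (M.subgroupOf (S : Subgroup G)).index = 2 := by
    refine Subgroup.index_eq_two_iff.2 ⟨⟨c, X.cS⟩, fun b => ?_⟩
    rw [Subgroup.mem_subgroupOf, Subgroup.mem_subgroupOf, Subgroup.coe_mul]
    rcases X.split b b.2 with ⟨i, hi⟩ | ⟨i, hi⟩ <;> simp only at hi
    · rw [← hi, ← zpow_add_one, hpar, hpar]
      rcases Int.even_or_odd i with h | h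
      · exact Or.inr ⟨h, Int.not_even_iff_odd.2 h.add_one⟩
      · exact Or.inl ⟨h.add_one, Int.not_even_iff_odd.2 h⟩
    · have hb : (b : G) = c ^ i * v := by rw [hi, inv_mul_cancel_right]
      have e : c ^ i * v * c = c ^ (i - 1) * (t * v) := by
        calc c ^ i * v * c = c ^ i * (v * c * v⁻¹) * v := by group
          _ = _ := by rw [hB, zpow_sub_one]; group
      rw [hb, e, Subgroup.mul_mem_cancel_right _ (mul_mem htM hvM),
        Subgroup.mul_mem_cancel_right _ hvM, hpar, hpar]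
      rcases Int.even_or_odd i with h | h
      · exact Or.inr ⟨h, Int.not_even_iff_odd.2 (h.sub_odd odd_one)⟩
      · exact Or.inl ⟨h.sub_odd odd_one, Int.not_even_iff_odd.2 h⟩
  have hcM : c ∉ M := fun h => hodd_not (a := 1) (by rwa [mul_one]) (one_mem _)
  -- the focal subgroup lies in `M`
  have hfoc : (S : Subgroup G).focalSubgroup ≤ M := by
    rw [Subgroup.focalSubgroup_def, Subgroup.closure_le]
    rintro g ⟨hg, x, hx, u, rfl⟩
    have hy : u * x⁻¹ * u⁻¹ ∈ (S : Subgroup G) := by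
      have h1 := mul_mem (inv_mem hx) hg
      rwa [commutatorElement_def, show x⁻¹ * (x * u * x⁻¹ * u⁻¹) = u * x⁻¹ * u⁻¹ by group] at h1
    have hinvol : ∀ y ∈ (S : Subgroup G), y * y = 1 → y ∈ M := by
      intro y hy hy2
      by_cases h1 : y = 1
      · rw [h1]; exact one_mem _
      · rcases X.invol_form hy (orderOf_eq_prime (by rw [pow_two, hy2]) h1) with rfl | ⟨i, rfl⟩
        · exact htM
        · refine mul_mem ((hpar i).2 ?_) hvM
          obtain ⟨k, rfl | rfl⟩ := Int.even_or_odd' i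
          · exact even_two_mul k
          · exfalso
            rw [X.semi_sq hB, zpow_add, zpow_mul, ht2, one_zpow, one_mul, zpow_one] at hy2
            exact CfsgLib.Invol.ne_one_of_orderOf_two X.ot hy2
    by_cases hx2 : x * x = 1
    · refine Subgroup.mem_carrier.1 ?_
      show ⁅x, u⁆ ∈ M
      rw [commutatorElement_def, show x * u * x⁻¹ * u⁻¹ = x * (u * x⁻¹ * u⁻¹) by group]
      refine mul_mem (hinvol x hx hx2) (hinvol _ hy ?_)
      calc u * x⁻¹ * u⁻¹ * (u * x⁻¹ * u⁻¹) = u * (x * x)⁻¹ * u⁻¹ := by group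
        _ = 1 := by rw [hx2, inv_one, mul_one, mul_inv_cancel]
    · -- the involution in `⟨x⟩` is `t`, so `u` centralizes `t`
      have hxi := fun (y : G) (hy : y ∈ (S : Subgroup G)) (h : y * y ≠ 1) => X.pow_half_eq_t hB hy h
      obtain ⟨k, hk, hkt⟩ := hxi x hx hx2
      have hy2 : u * x⁻¹ * u⁻¹ * (u * x⁻¹ * u⁻¹) ≠ 1 := fun e => hx2 (by
        rw [show u * x⁻¹ * u⁻¹ * (u * x⁻¹ * u⁻¹) = u * (x * x)⁻¹ * u⁻¹ by group, mul_inv_eq_one,
          mul_eq_left] at e
        exact inv_eq_one.1 e)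
      obtain ⟨l, hl, hlt⟩ := hxi _ hy hy2
      have hkl : k = l := by
        rw [CfsgLib.Invol.orderOf_conj_eq, orderOf_inv, hk] at hl
        omega
      rw [← hkl, conj_pow, inv_pow, hkt, inv_eq_of_mul_eq_one_left X.t_sq] at hlt
      have hu : u ∈ (S : Subgroup G) := by
        rw [← X.cent_eq hSC]
        exact Subgroup.mem_centralizer_singleton_iff.2 (mul_inv_eq_iff_eq_mul.1 hlt)
      have hc := commutator_mem_of_index_two hidx (⟨x, hx⟩ : (S : Subgroup G)) ⟨u, hu⟩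
      exact hc
  exact hcM (hfoc (by rw [focal_eq_of_simple hna 2 S]; exact X.cS))

theorem dihedral (X : Ctx S c t v) (hSC : SelfCentNoncyclic G) (hna : ¬ IsMulCommutative G) :
    v * c * v⁻¹ = c⁻¹ :=
  (X.action hSC).resolve_right fun h => X.not_semidihedral hSC hna h

end Ctx

end CfsgLib.PGroup.SelfCentSimple
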