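import Cfsg.Agent.S0731
import Cfsg.Agent.S3282
import Cfsg.Agent.Lib.InvolChar.A8Normalizer
import Cfsg.Agent.Lib.LocalEven.JBlockOffender
import Cfsg.Agent.Lib.Classical.Dickson.MinIndex
import Cfsg.Agent.Lib.PGroup.SelfCentSimple.Fusion

/-!
# Simple groups with the Brauer-Suzuki-Wall structure are two-dimensional linear groups
-/

set_option autoImplicit false

namespace CfsgLib.PGroup.SelfCentSimple

open MulAction

universe u

variable {G : Type u} [Group G] [Finite G] [IsSimpleGroup G]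

theorem psl_of_self_cent_kernel (hna : ¬ IsMulCommutative G) (Q D : Subgroup G)
    (hG : 2 * Nat.card G = Nat.card Q * (Nat.card Q + 1) * (Nat.card Q - 1))
    (hC : ∀ x ∈ Q, x ≠ 1 → Subgroup.centralizer ({x} : Set G) = Q)
    (hD : 2 * Nat.card D + 1 = Nat.card Q) (hQD : Q ⊓ D = ⊥)
    (hN : Subgroup.normalizer (Q : Set G) = Q ⊔ D) :
    ∃ (K : Type) (_ : Field K) (_ : Fintype K), ringChar K ≠ 2 ∧
      Nonempty (G ≃* Matrix.ProjectiveSpecialLinearGroup (Fin 2) K) := by
  classical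
  set B := Subgroup.normalizer (Q : Set G) with hBdef
  obtain ⟨d, hd⟩ : ∃ d, d = Nat.card D := ⟨_, rfl⟩
  have hq : Nat.card Q = 2 * d + 1 := by omega
  have hd0 : 0 < d := hd ▸ Nat.card_pos
  have hDB : D ≤ B := hN ▸ le_sup_right
  have hQB : Q ≤ B := Subgroup.le_normalizer
  have hBc : Nat.card B = (2 * d + 1) * d := by
    have h := CfsgLib.LocalEven.JComp.card_sup_mul_inf_of_le_normalizer (A := D) (B := Q) hDB
    rw [hQD, Subgroup.card_bot, mul_one, ← hN, hq, ← hd] at h
    exact h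
  have hGc : Nat.card G = (2 * d + 1) * (2 * d + 2) * d := by
    rw [hq, show 2 * d + 1 - 1 = 2 * d by omega] at hG
    refine Nat.eq_of_mul_eq_mul_left two_pos (hG.trans ?_)
    ring
  have hd1 : d ≠ 1 := by
    intro h
    subst h
    have hs := CfsgLib.InvolChar.A8Normalizer.isSolvable_of_card_lt_sixty (G := G)
      (by rw [hGc]; norm_num)
    exact hna ⟨⟨IsSimpleGroup.comm_iff_isSolvable.2 hs⟩⟩
  have hidx : B.index = 2 * d + 2 := by
    have h := B.card_mul_index
    rw [hBc, hGc] at h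
    refine Nat.eq_of_mul_eq_mul_left (show 0 < (2 * d + 1) * d by positivity) (h.trans ?_)
    ring
  let Ω := G ⧸ B
  haveI : Finite Ω := Quotient.finite _
  have hΩ : Nat.card Ω = 2 * d + 2 := by rw [← hidx]; rfl
  obtain ⟨x₀, hx₀⟩ : ∃ x₀ : Ω, x₀ = ((1 : G) : Ω) := ⟨_, rfl⟩
  have hstab : stabilizer G x₀ = B := by rw [hx₀]; exact MulAction.stabilizer_quotient B
  have hQne : ∀ u ∈ Q, u • x₀ = x₀ := fun u hu => mem_stabilizer_iff.1 (hstab.symm ▸ hQB hu)
  -- the kernel acts freely away from the base point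
  have hfree : ∀ z : Ω, z ≠ x₀ → ∀ u ∈ Q, u • z = z → u = 1 := by
    intro z hz u hu huz
    obtain ⟨g, rfl⟩ := QuotientGroup.mk_surjective z
    rw [MulAction.Quotient.smul_coe, smul_eq_mul, eq_comm, QuotientGroup.eq, ← mul_assoc] at huz
    by_contra hu1
    haveI : (Q.subgroupOf B).Normal := Subgroup.normal_subgroupOf_of_le_normalizer le_rfl
    have hind : (Q.subgroupOf B).index = d := by
      have h := (Q.subgroupOf B).card_mul_index
      rw [Nat.card_congr (Subgroup.subgroupOfEquivOfLe hQB).toEquiv, hBc, hq] at h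
      exact Nat.eq_of_mul_eq_mul_left (by omega) h
    have h1 := (Q.subgroupOf B).pow_index_mem (⟨g⁻¹ * u * g, huz⟩ : B)
    rw [hind, Subgroup.mem_subgroupOf, Subgroup.coe_pow] at h1
    have h2 : (g⁻¹ * u * g) ^ (2 * d + 1) = 1 := by
      rw [show g⁻¹ * u * g = g⁻¹ * u * g⁻¹⁻¹ by group, conj_pow, ← hq,
        show u ^ Nat.card Q = 1 from congrArg Subtype.val (pow_card_eq_one' (x := (⟨u, hu⟩ : Q)))]
      simp
    have hy : g⁻¹ * u * g ∈ Q := by
      have e : (g⁻¹ * u * g) ^ (2 * d + 1) * (((g⁻¹ * u * g) ^ d) ^ 2)⁻¹ = g⁻¹ * u * g := by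
        rw [← pow_mul, mul_comm d 2, pow_succ', mul_inv_cancel_right]
      rw [← e]
      exact Q.mul_mem (h2 ▸ Q.one_mem) (Q.inv_mem (Q.pow_mem h1 2))
    refine hz (hx₀ ▸ ?_)
    rw [eq_comm, QuotientGroup.eq, inv_one, one_mul]
    have hne : g⁻¹ * u * g ≠ 1 := fun e => hu1 (by
      calc u = g * (g⁻¹ * u * g) * g⁻¹ := by group
        _ = 1 := by rw [e]; group)
    have e1 := hC u hu hu1
    have e2 := hC _ hy hne
    have hfix : ∀ w : G, w ∈ Q ↔ g * w * g⁻¹ ∈ Q := by
      intro w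
      nth_rewrite 1 [← e2]
      nth_rewrite 1 [← e1]
      rw [Subgroup.mem_centralizer_singleton_iff, Subgroup.mem_centralizer_singleton_iff]
      constructor
      · intro h
        calc g * w * g⁻¹ * u = g * (w * (g⁻¹ * u * g)) * g⁻¹ := by group
          _ = g * (g⁻¹ * u * g * w) * g⁻¹ := by rw [h]
          _ = _ := by group
      · intro h
        calc w * (g⁻¹ * u * g) = g⁻¹ * (g * w * g⁻¹ * u) * g := by group
          _ = g⁻¹ * (u * (g * w * g⁻¹)) * g := by rw [h]
          _ = _ := by group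
    exact Subgroup.mem_normalizer_iff.2 hfix
  have hreg : ∀ y z : Ω, y ≠ x₀ → z ≠ x₀ → ∃! u : Q, (u : G) • y = z := by
    intro y z hy hz
    have hmaps : ∀ u : Q, (u : G) • y ≠ x₀ := fun u e => hy (by
      have h1 := hQne _ (Q.inv_mem u.2)
      rw [← e, inv_smul_smul] at h1
      exact h1.trans e)
    let f : Q → {w : Ω // w ≠ x₀} := fun u => ⟨(u : G) • y, hmaps u⟩
    have hinj : Function.Injective f := fun a b e => by
      have h1 : (a : G) • y = (b : G) • y := congrArg Subtype.val e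
      have h2 := hfree y hy _ (Q.mul_mem (Q.inv_mem b.2) a.2) (by rw [mul_smul, h1, inv_smul_smul])
      exact Subtype.ext (inv_mul_eq_one.1 h2).symm
    haveI := Fintype.ofFinite Ω
    haveI := Fintype.ofFinite Q
    have hcard : Fintype.card {w : Ω // w ≠ x₀} = Fintype.card Q := by
      rw [Fintype.card_subtype_compl, Fintype.card_subtype_eq, ← Nat.card_eq_fintype_card,
        ← Nat.card_eq_fintype_card, hΩ, hq]
      rfl
    obtain ⟨u, hu⟩ := ((Fintype.bijective_iff_injective_and_card f).2 ⟨hinj, hcard.symm⟩).2 ⟨z, hz⟩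
    exact ⟨u, congrArg Subtype.val hu, fun w hw =>
      hinj (Subtype.ext (hw.trans (congrArg Subtype.val hu).symm))⟩
  have h2t : MulAction.IsMultiplyPretransitive G Ω 2 := by
    rw [MulAction.is_two_pretransitive_iff]
    intro a b c e hab hce
    obtain ⟨g, hg⟩ := MulAction.exists_smul_eq G a x₀
    obtain ⟨k, hk⟩ := MulAction.exists_smul_eq G c x₀
    have hgb : g • b ≠ x₀ := fun h => hab (MulAction.injective g (hg.trans h.symm))
    have hke : k • e ≠ x₀ := fun h => hce (MulAction.injective k (hk.trans h.symm))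
    obtain ⟨u, hu, -⟩ := hreg _ _ hgb hke
    refine ⟨k⁻¹ * u * g, ?_, ?_⟩
    · rw [mul_smul, mul_smul, hg, hQne _ u.2, ← hk, inv_smul_smul]
    · rw [mul_smul, mul_smul, hu, inv_smul_smul]
  have hthree : ∀ g : G, ∀ a b c : Ω, a ≠ b → b ≠ c → a ≠ c → g • a = a → g • b = b → g • c = c →
      g = 1 := by
    intro g a b c hab hbc hac ha hb hc
    obtain ⟨k, hk⟩ := MulAction.exists_smul_eq G a x₀
    set h := k * g * k⁻¹
    have hfx : ∀ {w : Ω}, g • w = w → h • (k • w) = k • w := fun {w} hw => by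
      rw [mul_smul, mul_smul, inv_smul_smul, hw]
    have hh : h • x₀ = x₀ := hk ▸ hfx ha
    have hkb : k • b ≠ x₀ := fun e => hab (MulAction.injective k (hk.trans e.symm))
    have hkc : k • c ≠ x₀ := fun e => hac (MulAction.injective k (hk.trans e.symm))
    obtain ⟨u, hu, -⟩ := hreg _ _ hkb hkc
    have hhB : h ∈ B := hstab ▸ mem_stabilizer_iff.2 hh
    have hconj : h * u * h⁻¹ ∈ Q := (Subgroup.mem_normalizer_iff.1 hhB u).1 u.2
    have heq : (⟨_, hconj⟩ : Q) = u := (hreg _ _ hkb hkc).unique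
      (by
        show (h * u * h⁻¹) • (k • b) = k • c
        rw [mul_smul, mul_smul, show h⁻¹ • (k • b) = k • b by
          rw [inv_smul_eq_iff]; exact (hfx hb).symm, hu, hfx hc]) hu
    have hu1 : (u : G) ≠ 1 := fun e => hbc (MulAction.injective k (by
      rw [e, one_smul] at hu; exact hu))
    have hhQ : h ∈ Q := by
      rw [← hC _ u.2 hu1, Subgroup.mem_centralizer_singleton_iff]
      exact mul_inv_eq_iff_eq_mul.1 (congrArg Subtype.val heq)
    have h1 := hfree _ hkb h hhQ (hfx hb)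
    calc g = k⁻¹ * h * k := by simp [h, mul_assoc]
      _ = 1 := by rw [h1]; group
  have hBtop : B ≠ ⊤ := fun e => by
    rw [← Subgroup.index_eq_one, hidx] at e
    omega
  have hfaith : FaithfulSMul G Ω := by
    refine ⟨fun {a b} hab => ?_⟩
    have hmem : a⁻¹ * b ∈ (MulAction.toPermHom G Ω).ker := by
      rw [MonoidHom.mem_ker]
      refine Equiv.Perm.ext fun w => ?_
      show (a⁻¹ * b) • w = w
      rw [mul_smul, ← hab w, inv_smul_smul]
    rcases (MonoidHom.normal_ker (MulAction.toPermHom G Ω)).eq_bot_or_eq_top with e | e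
    · rw [e, Subgroup.mem_bot, inv_mul_eq_one] at hmem
      exact hmem
    · exfalso
      refine hBtop (eq_top_iff.2 fun g _ => ?_)
      have h1 : g ∈ (MulAction.toPermHom G Ω).ker := e ▸ Subgroup.mem_top g
      rw [← hstab, mem_stabilizer_iff]
      exact Equiv.Perm.ext_iff.1 (MonoidHom.mem_ker.1 h1) x₀
  have hZ : Cfsg.IsZassenhausGroup G Ω := by
    refine ⟨hfaith, h2t, hthree, ?_, ?_⟩
    · haveI : Nontrivial D := Finite.one_lt_card_iff_nontrivial.1 (by omega)
      obtain ⟨⟨e, he⟩, he1⟩ := exists_ne (1 : D)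
      -- an element of `B` outside `Q` fixes a second point
      obtain ⟨y, hy⟩ : ∃ y : Ω, y ≠ x₀ := by
        haveI := Fintype.ofFinite Ω
        exact Fintype.exists_ne_of_one_lt_card (by rw [← Nat.card_eq_fintype_card, hΩ]; omega) x₀
      have hey : e • y ≠ x₀ := fun h => hy (by
        have h1 : e • x₀ = x₀ := mem_stabilizer_iff.1 (hstab.symm ▸ hDB he)
        exact MulAction.injective e (h.trans h1.symm))
      obtain ⟨u, hu, -⟩ := hreg _ _ hey hy
      refine ⟨u * e, fun h => he1 ?_, x₀, y, hy.symm, ?_, by rw [mul_smul, hu]⟩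
      · have h1 : e ∈ Q ⊓ D := Subgroup.mem_inf.2 ⟨by
          rw [eq_inv_of_mul_eq_one_right h]; exact Q.inv_mem u.2, he⟩
        rw [hQD, Subgroup.mem_bot] at h1
        exact Subtype.ext h1
      · have h1 : e • x₀ = x₀ := mem_stabilizer_iff.1 (hstab.symm ▸ hDB he)
        rw [mul_smul, h1, hQne _ u.2]
    · intro N hN htr
      rcases hN.eq_bot_or_eq_top with rfl | rfl
      · exfalso
        haveI := Fintype.ofFinite Ω
        obtain ⟨y, hy⟩ := Fintype.exists_ne_of_one_lt_card
          (by rw [← Nat.card_eq_fintype_card, hΩ]; omega) x₀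
        obtain ⟨⟨n, hn⟩, hny⟩ := htr.exists_smul_eq x₀ y
        rw [Subgroup.mem_bot] at hn
        exact hy (by rw [← hny]; show _ = _; subst hn; exact one_smul _ _)
      · refine ⟨x₀, fun e => ?_⟩
        haveI : Nontrivial Q := Finite.one_lt_card_iff_nontrivial.1 (by omega)
        obtain ⟨⟨u, hu⟩, hu1⟩ := exists_ne (1 : Q)
        have h1 : (⟨u, Subgroup.mem_top u⟩ : (⊤ : Subgroup G)) ∈ stabilizer (⊤ : Subgroup G) x₀ :=
          mem_stabilizer_iff.2 (hQne u hu)
        have h2 := Subgroup.mem_bot.1 (e.le h1)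
        exact hu1 (Subtype.ext (congrArg Subtype.val h2 : u = 1))
  have hFab : IsMulCommutative Q := ⟨⟨fun a b => Subtype.ext (by
    by_cases h : (b : G) = 1
    · simp [h]
    · have h1 : (a : G) ∈ Subgroup.centralizer ({(b : G)} : Set G) := by rw [hC _ b.2 h]; exact a.2
      rw [Subgroup.mem_centralizer_singleton_iff] at h1
      exact h1)⟩⟩
  haveI : (Q.subgroupOf (stabilizer G x₀)).Normal :=
    Subgroup.normal_subgroupOf_of_le_normalizer hstab.le
  rcases Cfsg.Agent.S0731.result hZ x₀ Q (hstab.symm ▸ hQB) inferInstance hFab hreg with ⟨h3, -⟩ | h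
  · exfalso
    haveI := Fintype.ofFinite Ω
    obtain ⟨t₀⟩ : Nonempty (Fin 3 ↪ Ω) := Function.Embedding.nonempty_of_card_le (by
      rw [Fintype.card_fin, ← Nat.card_eq_fintype_card, hΩ]; omega)
    have h4 := Nat.card_le_card_of_surjective (fun g : G => g • t₀) fun t => h3.exists_smul_eq t₀ t
    rw [Nat.card_eq_fintype_card (α := Fin 3 ↪ Ω), Fintype.card_embedding_eq, Fintype.card_fin,
      ← Nat.card_eq_fintype_card, hΩ, hGc] at h4
    rw [show (2 * d + 2).descFactorial 3 = (2 * d) * ((2 * d + 1) * (2 * d + 2)) by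
      rw [Nat.descFactorial_succ, Nat.descFactorial_succ, Nat.descFactorial_succ,
        Nat.descFactorial_zero, show 2 * d + 2 - 2 = 2 * d by omega,
        show 2 * d + 2 - 1 = 2 * d + 1 by omega, Nat.sub_zero, mul_one]] at h4
    nlinarith [Nat.mul_pos hd0 (show 0 < (2 * d + 1) * (2 * d + 2) by positivity)]
  · exact h

end CfsgLib.PGroup.SelfCentSimple
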