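import Cfsg.Agent.S0111
import Cfsg.Agent.S0204
import Cfsg.Agent.S3919
import Cfsg.Agent.Lib.Invol.BaerSuzuki
import Cfsg.Agent.Lib.Invol.Counting

/-!
# Simple groups in which non-cyclic subgroups are self-centralising: involution centralisers
-/

set_option autoImplicit false

namespace CfsgLib.PGroup.SelfCentSimple

open Subgroup

variable {G : Type*} [Group G] [Finite G]

/-- Every non-cyclic subgroup contains its centraliser. -/
def SelfCentNoncyclic (G : Type*) [Group G] : Prop :=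
  ∀ H : Subgroup G, ¬ IsCyclic ↥H → Subgroup.centralizer (H : Set G) ≤ H

omit [Finite G] in
theorem not_cyclic_of_noncomm {H : Subgroup G} {a b : G} (ha : a ∈ H) (hb : b ∈ H)
    (h : a * b ≠ b * a) : ¬ IsCyclic ↥H := fun hc => by
  haveI := hc
  exact h (congrArg Subtype.val ((IsCyclic.commGroup (α := ↥H)).mul_comm ⟨a, ha⟩ ⟨b, hb⟩))

theorem no_inverted (hSC : SelfCentNoncyclic G) {t v h : G} (ht : orderOf t = 2) (hv : orderOf v = 2)
    (hvt : v * t = t * v) (hht : h * t = t * h) (hh : h ≠ 1) (hodd : Odd (orderOf h))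
    (hinv : v * h * v⁻¹ = h⁻¹) : False := by
  have hne : h⁻¹ ≠ h := fun e => hh (by
    have h2 : h ^ 2 = 1 := by rw [pow_two]; nth_rewrite 1 [← e]; exact inv_mul_cancel h
    exact orderOf_eq_one_iff.1
      ((Nat.dvd_prime Nat.prime_two).1 (orderOf_dvd_of_pow_eq_one h2) |>.resolve_right
        (fun e2 => by rw [e2] at hodd; exact absurd hodd (by decide))))
  have hnc : h * v ≠ v * h := fun e => hne (by rw [← hinv, ← e, mul_inv_cancel_right])
  have hn : Subgroup.zpowers v ≤ Subgroup.normalizer (Subgroup.zpowers h : Set G) := by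
    refine Subgroup.zpowers_le.2 ?_
    have hvv : v⁻¹ = v := by
      rw [inv_eq_iff_mul_eq_one, ← pow_two, ← hv, pow_orderOf_eq_one]
    have key : ∀ x ∈ Subgroup.zpowers h, v * x * v⁻¹ ∈ Subgroup.zpowers h := by
      rintro _ ⟨i, rfl⟩
      refine ⟨-i, ?_⟩
      show h ^ (-i) = _
      rw [← conj_zpow, hinv, inv_zpow, zpow_neg]
    refine Subgroup.mem_normalizer_iff.2 fun x => ⟨key x, fun hx => ?_⟩
    have h1 := key _ hx
    rw [show v * (v * x * v⁻¹) * v⁻¹ = (v * v) * x * (v * v)⁻¹ by group,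
      show v * v = 1 by nth_rewrite 1 [← hvv]; exact inv_mul_cancel v] at h1
    simpa using h1
  have hT : t ∈ Subgroup.zpowers h ⊔ Subgroup.zpowers v := by
    refine hSC _ (not_cyclic_of_noncomm (Subgroup.mem_sup_left (Subgroup.mem_zpowers h))
      (Subgroup.mem_sup_right (Subgroup.mem_zpowers v)) hnc) ?_
    rw [Subgroup.zpowers_eq_closure, Subgroup.zpowers_eq_closure, ← Subgroup.closure_union,
      Subgroup.centralizer_closure, Subgroup.mem_centralizer_iff]
    intro x hx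
    rcases hx with hx | hx <;> rw [Set.mem_singleton_iff] at hx <;> subst hx
    · exact hht
    · exact hvt
  rw [← SetLike.mem_coe, Subgroup.coe_mul_of_right_le_normalizer_left _ _ hn] at hT
  obtain ⟨a, ha, b, hb, hab⟩ := hT
  obtain ⟨i, rfl⟩ := ha
  have hv2 : v ^ (2 : ℤ) = 1 := by
    rw [show (2 : ℤ) = ((2 : ℕ) : ℤ) from rfl, zpow_natCast, ← hv, pow_orderOf_eq_one]
  obtain ⟨j, rfl⟩ := hb
  simp only at hab
  obtain ⟨k, rfl | rfl⟩ := Int.even_or_odd' j
  · rw [zpow_mul, hv2, one_zpow, mul_one] at hab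
    have h1 : orderOf t ∣ orderOf h := hab ▸ orderOf_dvd_of_mem_zpowers ⟨i, rfl⟩
    rw [ht] at h1
    exact (Nat.not_even_iff_odd.2 hodd) (even_iff_two_dvd.2 h1)
  · rw [zpow_add, zpow_mul, hv2, one_zpow, one_mul, zpow_one] at hab
    have hv' : v = (h ^ i)⁻¹ * t := by rw [← hab, inv_mul_cancel_left]
    refine hnc ?_
    have hc : Commute h ((h ^ i)⁻¹ * t) :=
      (((Commute.refl h).zpow_right i).inv_right).mul_right hht
    rw [hv']
    exact hc

theorem cent_four (hSC : SelfCentNoncyclic G) {t v : G} (ht : orderOf t = 2) (hv : orderOf v = 2)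
    (hne : v ≠ t) (hc : v * t = t * v) {x : G} (hxt : x * t = t * x) (hxv : x * v = v * x) :
    x = 1 ∨ x = t ∨ x = v ∨ x = t * v := by
  have hn : Subgroup.zpowers v ≤ Subgroup.normalizer (Subgroup.zpowers t : Set G) := by
    refine le_trans ?_ (Subgroup.centralizer_le_normalizer _)
    rw [Subgroup.zpowers_le, Subgroup.zpowers_eq_closure, Subgroup.centralizer_closure,
      Subgroup.mem_centralizer_singleton_iff]
    exact hc
  have hnc : ¬ IsCyclic ↥(Subgroup.zpowers t ⊔ Subgroup.zpowers v) := fun h => by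
    obtain ⟨g, hg⟩ := h.exists_generator
    have key : ∀ y ∈ Subgroup.zpowers t ⊔ Subgroup.zpowers v, y ∈ Subgroup.zpowers (g : G) := by
      intro y hy
      obtain ⟨i, hi⟩ := hg ⟨y, hy⟩
      exact ⟨i, by simpa using congrArg Subtype.val hi⟩
    exact hne (CfsgLib.Invol.mem_zpowers_unique_involution
      (key v (Subgroup.mem_sup_right (Subgroup.mem_zpowers v)))
      (key t (Subgroup.mem_sup_left (Subgroup.mem_zpowers t))) hv ht)
  have hx : x ∈ Subgroup.zpowers t ⊔ Subgroup.zpowers v := by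
    refine hSC _ hnc ?_
    rw [Subgroup.zpowers_eq_closure, Subgroup.zpowers_eq_closure, ← Subgroup.closure_union,
      Subgroup.centralizer_closure, Subgroup.mem_centralizer_iff]
    intro y hy
    rcases hy with hy | hy <;> rw [Set.mem_singleton_iff] at hy <;> subst hy
    · exact hxt.symm
    · exact hxv.symm
  have two : ∀ {u z : G}, orderOf u = 2 → z ∈ Subgroup.zpowers u → z = 1 ∨ z = u := by
    rintro u _ hu ⟨j, rfl⟩
    have hu2 : u ^ (2 : ℤ) = 1 := by
      rw [show (2 : ℤ) = ((2 : ℕ) : ℤ) from rfl, zpow_natCast, ← hu, pow_orderOf_eq_one]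
    obtain ⟨k, rfl | rfl⟩ := Int.even_or_odd' j
    · left; simp [zpow_mul, hu2]
    · right; simp [zpow_add, zpow_mul, hu2]
  rw [← SetLike.mem_coe, Subgroup.coe_mul_of_right_le_normalizer_left _ _ hn] at hx
  obtain ⟨a, ha, b, hb, rfl⟩ := hx
  rcases two ht ha with rfl | rfl <;> rcases two hv hb with rfl | rfl <;> simp

/-- A Sylow `2`-subgroup with a cyclic subgroup `⟨c⟩` of index two, its involution `t` and an
involution `v` outside. -/
structure Ctx (S : Sylow 2 G) (c t v : G) : Prop where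
  cS : c ∈ (S : Subgroup G)
  vS : v ∈ (S : Subgroup G)
  tc : t ∈ Subgroup.zpowers c
  ot : orderOf t = 2
  ov : orderOf v = 2
  vc : v ∉ Subgroup.zpowers c
  split : ∀ x ∈ (S : Subgroup G), x ∈ Subgroup.zpowers c ∨ x * v⁻¹ ∈ Subgroup.zpowers c
  norm : ∀ x ∈ (S : Subgroup G), x * c * x⁻¹ ∈ Subgroup.zpowers c

theorem exists_ctx (hSC : SelfCentNoncyclic G) (E : Subgroup G) (hE : IsKleinFour E) :
    ∃ (S : Sylow 2 G) (c t v : G), Ctx S c t v := by
  haveI : Fact (Nat.Prime 2) := ⟨Nat.prime_two⟩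
  have hE4 : Nat.card E = 4 := hE.card_four
  obtain ⟨S, hES⟩ := (IsPGroup.of_card (n := 2) (hE4.trans (by norm_num)) :
    IsPGroup 2 E).exists_le_sylow
  refine ⟨S, ?_⟩
  have hEsq : ∀ a ∈ E, a * a = 1 := fun a ha =>
    congrArg Subtype.val (IsKleinFour.mul_self (⟨a, ha⟩ : E))
  have hord : ∀ a ∈ E, a ≠ 1 → orderOf a = 2 := fun a ha h1 =>
    orderOf_eq_prime (by rw [pow_two]; exact hEsq a ha) h1
  obtain ⟨a, haE, ha1⟩ := (Subgroup.bot_or_exists_ne_one E).resolve_left
    (fun e => by rw [e, Subgroup.card_bot] at hE4; omega)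
  obtain ⟨b, hbE, hb⟩ : ∃ b ∈ E, b ∉ Subgroup.zpowers a := Set.not_subset.1 fun hle => by
    have h1 := Subgroup.card_le_of_le (show E ≤ Subgroup.zpowers a from hle)
    rw [hE4, Nat.card_zpowers, hord a haE ha1] at h1
    omega
  have hb1 : b ≠ 1 := fun e => hb (e ▸ one_mem _)
  have hab : b ≠ a := fun e => hb (e ▸ Subgroup.mem_zpowers a)
  have hcomm : ∀ x ∈ E, ∀ y ∈ E, x * y = y * x := fun x hx y hy => by
    have h1 := hEsq _ (E.mul_mem hx hy)
    calc x * y = x * (x * y * (x * y)) * y := by rw [h1, mul_one]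
      _ = (x * x) * (y * x) * (y * y) := by group
      _ = y * x := by rw [hEsq x hx, hEsq y hy, one_mul, mul_one]
  by_cases hS : ∀ x ∈ (S : Subgroup G), ∀ y ∈ (S : Subgroup G), x * y = y * x
  · refine ⟨a, a, b, ?_⟩
    refine ⟨hES haE, hES hbE, Subgroup.mem_zpowers a, hord a haE ha1, hord b hbE hb1, hb,
      fun x hx => ?_, fun x hx => by rw [hS x hx a (hES haE), mul_inv_cancel_right]; exact Subgroup.mem_zpowers a⟩
    rcases cent_four hSC (hord a haE ha1) (hord b hbE hb1) hab (hcomm b hbE a haE)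
      (hS x hx a (hES haE)) (hS x hx b (hES hbE)) with rfl | rfl | rfl | rfl
    · exact Or.inl (one_mem _)
    · exact Or.inl (Subgroup.mem_zpowers _)
    · exact Or.inr (by rw [mul_inv_cancel]; exact one_mem _)
    · exact Or.inr (by rw [mul_inv_cancel_right]; exact Subgroup.mem_zpowers _)
  · obtain ⟨n, hn⟩ := IsPGroup.iff_card.1 S.2
    have hEn : ¬ IsCyclic E := IsKleinFour.not_isCyclic
    have hcl : Group.nilpotencyClass (S : Subgroup G) = n - 1 := by
      refine CfsgLib.Transfer.nilpotencyClass_of_self_centralizing hn (E.subgroupOf S) ?_ ?_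
      · rw [Nat.card_congr (Subgroup.subgroupOfEquivOfLe hES).toEquiv, hE4]
        rfl
      · refine le_antisymm (fun x hx => ?_) fun x hx => Subgroup.mem_centralizer_iff.2 fun y hy =>
          Subtype.ext (hcomm y hy x hx)
        refine hSC E hEn (Subgroup.mem_centralizer_iff.2 fun y hy => ?_)
        exact congrArg Subtype.val (Subgroup.mem_centralizer_iff.1 hx ⟨y, hES hy⟩ hy)
    haveI := (S.2).isNilpotent
    have hn3 : 3 ≤ n := by
      by_contra h
      haveI := Group.IsNilpotent.nilpotencyClass_le_one_iff.1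
        (show Group.nilpotencyClass (S : Subgroup G) ≤ 1 by omega)
      exact hS fun x hx y hy =>
        congrArg Subtype.val (IsMulCommutative.is_comm.comm (⟨x, hx⟩ : (S : Subgroup G)) ⟨y, hy⟩)
    obtain ⟨hidx, hsq⟩ := CfsgLib.Transfer.squares_mem_commutator hn3 hn hcl
    obtain ⟨-, C, hCc, hCi⟩ := CfsgLib.Transfer.maximalClass_two hn hidx hsq
    obtain ⟨g, hg⟩ := hCc.exists_generator
    set c : G := ((g : (S : Subgroup G)) : G)
    have hmem : ∀ x (hx : x ∈ (S : Subgroup G)), x ∈ Subgroup.zpowers c ↔ (⟨x, hx⟩ : (S : Subgroup G)) ∈ C := by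
      intro x hx
      constructor
      · rintro ⟨i, hi⟩
        have : (⟨x, hx⟩ : (S : Subgroup G)) = (g : (S : Subgroup G)) ^ i := Subtype.ext (by simpa [c] using hi.symm)
        rw [this]; exact C.zpow_mem g.2 i
      · intro h
        obtain ⟨i, hi⟩ := hg ⟨_, h⟩
        exact ⟨i, by simpa [c] using congrArg (fun z : C => ((z : (S : Subgroup G)) : G)) hi⟩
    have key : ∀ x ∈ (S : Subgroup G), ∀ y ∈ (S : Subgroup G),
        x * y ∈ Subgroup.zpowers c ↔ (x ∈ Subgroup.zpowers c ↔ y ∈ Subgroup.zpowers c) := by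
      intro x hx y hy
      rw [hmem x hx, hmem y hy, hmem _ (mul_mem hx hy)]
      exact Subgroup.mul_mem_iff_of_index_two (a := (⟨x, hx⟩ : (S : Subgroup G))) (b := ⟨y, hy⟩) hCi
    have uniq : ∀ x ∈ E, ∀ y ∈ E, x ≠ 1 → y ≠ 1 → x ∈ Subgroup.zpowers c →
        y ∈ Subgroup.zpowers c → x = y := fun x hx y hy hx1 hy1 h1 h2 =>
      CfsgLib.Invol.mem_zpowers_unique_involution h1 h2 (hord x hx hx1) (hord y hy hy1)
    obtain ⟨t, v, htE, hvE, ht1, hv1, htc, hvc⟩ : ∃ t v, t ∈ E ∧ v ∈ E ∧ t ≠ 1 ∧ v ≠ 1 ∧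
        t ∈ Subgroup.zpowers c ∧ v ∉ Subgroup.zpowers c := by
      by_cases hac : a ∈ Subgroup.zpowers c
      · exact ⟨a, b, haE, hbE, ha1, hb1, hac, fun h => hab (uniq b hbE a haE hb1 ha1 h hac)⟩
      · by_cases hbc : b ∈ Subgroup.zpowers c
        · exact ⟨b, a, hbE, haE, hb1, ha1, hbc, hac⟩
        · refine ⟨a * b, a, E.mul_mem haE hbE, haE, fun e => hab ?_, ha1,
            (key a (hES haE) b (hES hbE)).2 (iff_of_false hac hbc), hac⟩
          calc b = (a * a) * b := by rw [hEsq a haE, one_mul]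
            _ = a * (a * b) := by group
            _ = a := by rw [e, mul_one]
    refine ⟨c, t, v, (g : (S : Subgroup G)).2, hES hvE, htc, hord t htE ht1, hord v hvE hv1, hvc,
      fun x hx => ?_, fun x hx => ?_⟩
    · by_cases h : x ∈ Subgroup.zpowers c
      · exact Or.inl h
      · exact Or.inr ((key x hx v⁻¹ (inv_mem (hES hvE))).2
          (iff_of_false h fun h' => hvc (by simpa using inv_mem h')))
    · haveI : C.Normal := Subgroup.normal_of_index_eq_two hCi
      exact (hmem _ (mul_mem (mul_mem hx (g : (S : Subgroup G)).2) (inv_mem hx))).2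
        (Subgroup.Normal.conj_mem inferInstance _ g.2 ⟨x, hx⟩)

namespace Ctx

variable {S : Sylow 2 G} {c t v : G}

theorem zpowers_le (X : Ctx S c t v) : Subgroup.zpowers c ≤ (S : Subgroup G) :=
  Subgroup.zpowers_le.2 X.cS

theorem invol_eq (X : Ctx S c t v) {x : G} (hx : x ∈ Subgroup.zpowers c) (h : orderOf x = 2) :
    x = t :=
  CfsgLib.Invol.mem_zpowers_unique_involution hx X.tc h X.ot

theorem conj_mem (X : Ctx S c t v) {x y : G} (hx : x ∈ (S : Subgroup G)) (hy : y ∈ Subgroup.zpowers c) :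
    x * y * x⁻¹ ∈ Subgroup.zpowers c := by
  obtain ⟨i, rfl⟩ := hy
  show x * c ^ i * x⁻¹ ∈ _
  rw [← conj_zpow]
  exact zpow_mem (X.norm x hx) i

theorem comm_c (_X : Ctx S c t v) {x y : G} (hx : x ∈ Subgroup.zpowers c) (hy : y ∈ Subgroup.zpowers c) :
    x * y = y * x := by
  obtain ⟨i, rfl⟩ := hx
  obtain ⟨j, rfl⟩ := hy
  exact (Commute.refl c).zpow_zpow i j

theorem t_comm (X : Ctx S c t v) {x : G} (hx : x ∈ (S : Subgroup G)) : x * t = t * x :=
  mul_inv_eq_iff_eq_mul.1 (X.invol_eq (X.conj_mem hx X.tc) ((CfsgLib.Invol.orderOf_conj_eq x t).trans X.ot))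

theorem v_ne_t (X : Ctx S c t v) : v ≠ t := fun e => X.vc (e ▸ X.tc)

theorem fix (X : Ctx S c t v) (hSC : SelfCentNoncyclic G) {x : G} (hx : x ∈ Subgroup.zpowers c)
    (hxv : x * v = v * x) : x = 1 ∨ x = t := by
  rcases cent_four hSC X.ot X.ov X.v_ne_t (X.t_comm X.vS) (X.t_comm (X.zpowers_le hx)) hxv with
    h | h | h | h
  · exact Or.inl h
  · exact Or.inr h
  · exact absurd (h ▸ hx) X.vc
  · refine absurd ?_ X.vc
    have h1 := mul_mem (inv_mem X.tc) (h ▸ hx)
    rwa [inv_mul_cancel_left] at h1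

theorem v_sq (X : Ctx S c t v) : v * v = 1 := by rw [← pow_two, ← X.ov, pow_orderOf_eq_one]

theorem t_sq (X : Ctx S c t v) : t * t = 1 := by rw [← pow_two, ← X.ot, pow_orderOf_eq_one]

theorem v_inv (X : Ctx S c t v) : v⁻¹ = v := inv_eq_of_mul_eq_one_left X.v_sq

theorem action (X : Ctx S c t v) (hSC : SelfCentNoncyclic G) :
    v * c * v⁻¹ = c⁻¹ ∨ v * c * v⁻¹ = c⁻¹ * t := by
  have hm := X.norm v X.vS
  have hs : c * (v * c * v⁻¹) ∈ Subgroup.zpowers c := mul_mem (Subgroup.mem_zpowers c) hm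
  have hfix : c * (v * c * v⁻¹) * v = v * (c * (v * c * v⁻¹)) := by
    symm
    rw [← mul_inv_eq_iff_eq_mul]
    calc v * (c * (v * c * v⁻¹)) * v⁻¹ = (v * c * v⁻¹) * ((v * v) * c * (v * v)⁻¹) := by group
      _ = (v * c * v⁻¹) * c := by rw [X.v_sq]; group
      _ = c * (v * c * v⁻¹) := X.comm_c hm (Subgroup.mem_zpowers c)
  rcases X.fix hSC hs hfix with h | h
  · exact Or.inl (eq_inv_of_mul_eq_one_right h)
  · exact Or.inr (by rw [← h, inv_mul_cancel_left])

theorem sq_of_not_mem (X : Ctx S c t v) {i : ℤ} :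
    c ^ i * v * (c ^ i * v) = c ^ i * (v * c * v⁻¹) ^ i := by
  rw [conj_zpow, X.v_inv]
  group

theorem dih_sq (X : Ctx S c t v) (hA : v * c * v⁻¹ = c⁻¹) (i : ℤ) :
    c ^ i * v * (c ^ i * v) = 1 := by
  rw [X.sq_of_not_mem, hA, inv_zpow, mul_inv_cancel]

theorem semi_t (X : Ctx S c t v) (hB : v * c * v⁻¹ = c⁻¹ * t) : t ∈ Subgroup.zpowers (c ^ (2 : ℤ)) := by
  obtain ⟨i, hi⟩ := X.tc
  simp only at hi
  obtain ⟨k, rfl | rfl⟩ := Int.even_or_odd' i
  · exact ⟨k, by simp only; rw [← zpow_mul, hi]⟩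
  · exfalso
    have h1 : v * t * v⁻¹ = t := by rw [X.t_comm X.vS, mul_inv_cancel_right]
    have hct : Commute c⁻¹ t := X.comm_c (inv_mem (Subgroup.mem_zpowers c)) X.tc
    nth_rewrite 1 [← hi] at h1
    rw [← conj_zpow, hB, hct.mul_zpow, inv_zpow, hi] at h1
    rw [zpow_add, zpow_mul, zpow_one, show t ^ (2 : ℤ) = 1 by
      rw [show (2 : ℤ) = ((2 : ℕ) : ℤ) from rfl, zpow_natCast, pow_two, X.t_sq], one_zpow, one_mul,
      inv_mul_cancel] at h1
    have := X.ot
    rw [← h1, orderOf_one] at this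
    omega

theorem semi_inv (X : Ctx S c t v) (hB : v * c * v⁻¹ = c⁻¹ * t) :
    v * c ^ (2 : ℤ) * v⁻¹ = (c ^ (2 : ℤ))⁻¹ := by
  have hct : Commute c⁻¹ t := X.comm_c (inv_mem (Subgroup.mem_zpowers c)) X.tc
  rw [← conj_zpow, hB, hct.mul_zpow, inv_zpow, show t ^ (2 : ℤ) = 1 by
    rw [show (2 : ℤ) = ((2 : ℕ) : ℤ) from rfl, zpow_natCast, pow_two, X.t_sq], mul_one]

theorem semi_sq (X : Ctx S c t v) (hB : v * c * v⁻¹ = c⁻¹ * t) (i : ℤ) :
    c ^ i * v * (c ^ i * v) = t ^ i := by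
  have hct : Commute c⁻¹ t := X.comm_c (inv_mem (Subgroup.mem_zpowers c)) X.tc
  rw [X.sq_of_not_mem, hB, hct.mul_zpow, inv_zpow, mul_inv_cancel_left]

theorem invol_form (X : Ctx S c t v) {y : G} (hy : y ∈ (S : Subgroup G)) (h : orderOf y = 2) :
    y = t ∨ ∃ i : ℤ, y = c ^ i * v := by
  rcases X.split y hy with h1 | ⟨i, hi⟩
  · exact Or.inl (X.invol_eq h1 h)
  · exact Or.inr ⟨i, by simp only at hi; rw [hi, inv_mul_cancel_right]⟩

theorem invol_mem (X : Ctx S c t v) (hSC : SelfCentNoncyclic G) {y : G} (hyt : y * t = t * y)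
    (h : orderOf y = 2) : y ∈ (S : Subgroup G) := by
  haveI : Fact (Nat.Prime 2) := ⟨Nat.prime_two⟩
  set M := Subgroup.centralizer ({t} : Set G)
  have hSM : (S : Subgroup G) ≤ M := fun x hx =>
    Subgroup.mem_centralizer_singleton_iff.2 (X.t_comm hx)
  have hyM : y ∈ M := Subgroup.mem_centralizer_singleton_iff.2 hyt
  have hy2 : orderOf (⟨y, hyM⟩ : M) = 2 := by rw [Subgroup.orderOf_mk, h]
  by_contra hyS
  by_cases hO : ∀ N : Subgroup M, N.Normal → IsPGroup 2 N → (⟨y, hyM⟩ : M) ∉ N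
  · obtain ⟨g, hg1, hg2, hg3⟩ := CfsgLib.Invol.exists_inverted_odd _ hy2 hO
    refine no_inverted hSC X.ot h hyt (Subgroup.mem_centralizer_singleton_iff.1 g.2)
      (fun e => hg1 (Subtype.ext e)) (by rwa [Subgroup.orderOf_coe]) ?_
    exact congrArg Subtype.val hg3
  · push Not at hO
    obtain ⟨N, hN, hNp, hyN⟩ := hO
    have := hN
    exact hyS (Subgroup.mem_subgroupOf.1 (hNp.le_sylow_of_normal (S.subtype hSM) hyN))

/-- An element of `C(t)` permuting the involutions `⟨d⟩v` is a `2`-element. -/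
theorem not_odd (X : Ctx S c t v) (hSC : SelfCentNoncyclic G) {d : G} (hd : d ∈ Subgroup.zpowers c)
    (hdv : orderOf (d * v) = 2)
    (hform : ∀ y ∈ (S : Subgroup G), orderOf y = 2 → y = t ∨ y * v⁻¹ ∈ Subgroup.zpowers d)
    {x : G} (hxt : x * t = t * x) {r : ℕ} (hr : Odd r) (hxr : orderOf x = r) : x = 1 := by
  have hconj : ∀ y ∈ (S : Subgroup G), orderOf y = 2 → y ≠ t → y * t = t * y →
      x * y * x⁻¹ * v⁻¹ ∈ Subgroup.zpowers d := by
    intro y _ hy2 hyt hyc
    have ho : orderOf (x * y * x⁻¹) = 2 := (CfsgLib.Invol.orderOf_conj_eq x y).trans hy2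
    have hc : x * y * x⁻¹ * t = t * (x * y * x⁻¹) := by
      have hxt' : Commute x t := hxt
      exact (hxt'.mul_left hyc).mul_left hxt'.inv_left
    refine (hform _ (X.invol_mem hSC hc ho) ho).resolve_left fun e => hyt ?_
    calc y = x⁻¹ * (x * y * x⁻¹) * x := by group
      _ = t := by rw [e, mul_assoc, ← hxt, inv_mul_cancel_left]
  have hdS : d ∈ (S : Subgroup G) := X.zpowers_le hd
  have hv' := hconj v X.vS X.ov X.v_ne_t (X.t_comm X.vS)
  have hdv' := hconj (d * v) (mul_mem hdS X.vS) hdv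
    (fun e => X.vc (by
      have h1 := mul_mem (inv_mem hd) (e ▸ X.tc : d * v ∈ Subgroup.zpowers c)
      rwa [inv_mul_cancel_left] at h1))
    (X.t_comm (mul_mem hdS X.vS))
  -- `x` normalises `⟨d⟩`
  obtain ⟨a, ha⟩ : x * d * x⁻¹ ∈ Subgroup.zpowers d := by
    have h1 := mul_mem hdv' (inv_mem hv')
    rwa [show x * (d * v) * x⁻¹ * v⁻¹ * (x * v * x⁻¹ * v⁻¹)⁻¹ = x * d * x⁻¹ by group] at h1
  simp only at ha
  have hiter : ∀ k : ℕ, x ^ k * d * (x ^ k)⁻¹ = d ^ (a ^ k) := by
    intro k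
    induction k with
    | zero => simp
    | succ k ih =>
      calc x ^ (k + 1) * d * (x ^ (k + 1))⁻¹ = x * (x ^ k * d * (x ^ k)⁻¹) * x⁻¹ := by
            rw [pow_succ']; group
        _ = x * d ^ (a ^ k) * x⁻¹ := by rw [ih]
        _ = (x * d * x⁻¹) ^ (a ^ k) := (conj_zpow).symm
        _ = d ^ (a ^ (k + 1)) := by rw [← ha, ← zpow_mul, pow_succ']
  have hdord : orderOf d ∣ Nat.card (S : Subgroup G) :=
    Subgroup.orderOf_mk d hdS ▸ orderOf_dvd_natCard (⟨d, hdS⟩ : (S : Subgroup G))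
  haveI : Fact (Nat.Prime 2) := ⟨Nat.prime_two⟩
  obtain ⟨n, hn⟩ := IsPGroup.iff_card.1 S.2
  obtain ⟨e, -, he⟩ := (Nat.dvd_prime_pow Nat.prime_two).1 (hn ▸ hdord)
  have hcr : Nat.Coprime r (2 ^ (e - 1)) :=
    Nat.Coprime.pow_right _ (Nat.coprime_two_right.2 hr)
  have hxd : x * d * x⁻¹ = d := by
    have h1 := hiter r
    rw [← hxr, pow_orderOf_eq_one, hxr, one_mul, inv_one, mul_one] at h1
    have h2 : ((a : ZMod (2 ^ e)) ^ r) = 1 := by
      have h3 : d ^ (a ^ r - 1) = 1 := by rw [zpow_sub_one, ← h1, mul_inv_cancel]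
      have h4 := orderOf_dvd_iff_zpow_eq_one.2 h3
      rw [he] at h4
      have h5 := (ZMod.intCast_zmod_eq_zero_iff_dvd _ _).2 h4
      rw [Int.cast_sub, Int.cast_pow, Int.cast_one, sub_eq_zero] at h5
      exact h5
    have h6 : (a : ZMod (2 ^ e)) = 1 := by
      obtain ⟨u, hu⟩ := (IsUnit.of_pow_eq_one h2 (by rcases hr with ⟨k, rfl⟩; omega) : IsUnit (a : ZMod (2 ^ e)))
      rw [← hu]
      have hu1 : u ^ r = 1 := Units.ext (by rw [Units.val_pow_eq_pow_val, hu, h2, Units.val_one])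
      have hu2 : u ^ 2 ^ (e - 1) = 1 := by
        rcases Nat.eq_zero_or_pos e with rfl | he0
        · haveI : Subsingleton (ZMod (2 ^ 0)) := by rw [pow_zero]; infer_instance
          exact Units.ext (Subsingleton.elim _ _)
        · have h7 : u ^ Nat.totient (2 ^ e) = 1 := ZMod.pow_totient u
          rwa [Nat.totient_prime_pow Nat.prime_two he0, show 2 - 1 = 1 from rfl, mul_one] at h7
      rw [orderOf_eq_one_iff.1 (Nat.eq_one_of_dvd_coprimes hcr (orderOf_dvd_of_pow_eq_one hu1)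
        (orderOf_dvd_of_pow_eq_one hu2)), Units.val_one]
    rw [← ha]
    have h8 : d ^ (a - 1) = 1 := by
      refine orderOf_dvd_iff_zpow_eq_one.1 ?_
      rw [he, ← ZMod.intCast_zmod_eq_zero_iff_dvd, Int.cast_sub, h6, Int.cast_one, sub_self]
    rwa [zpow_sub_one, mul_inv_eq_one] at h8
  obtain ⟨j, hj⟩ := hv'
  simp only at hj
  have hjv : x * v * x⁻¹ = d ^ j * v := by rw [hj, inv_mul_cancel_right]
  have hiter2 : ∀ k : ℕ, x ^ k * v * (x ^ k)⁻¹ = d ^ (j * k) * v := by
    intro k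
    induction k with
    | zero => simp
    | succ k ih =>
      calc x ^ (k + 1) * v * (x ^ (k + 1))⁻¹ = x * (x ^ k * v * (x ^ k)⁻¹) * x⁻¹ := by
            rw [pow_succ']; group
        _ = (x * d ^ (j * k) * x⁻¹) * (x * v * x⁻¹) := by rw [ih]; group
        _ = d ^ (j * k) * (d ^ j * v) := by rw [← conj_zpow, hxd, hjv]
        _ = d ^ (j * (k + 1 : ℕ)) * v := by rw [← mul_assoc, ← zpow_add]; push_cast; ring_nf
  have hdj : d ^ j = 1 := by
    have h1 := hiter2 r
    rw [← hxr, pow_orderOf_eq_one, hxr, one_mul, inv_one, mul_one, right_eq_mul, zpow_mul,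
      zpow_natCast] at h1
    have h2 : orderOf (d ^ j) ∣ 2 ^ e := he ▸ orderOf_dvd_of_mem_zpowers ⟨j, rfl⟩
    exact orderOf_eq_one_iff.1 (Nat.eq_one_of_dvd_coprimes
      (Nat.Coprime.pow_right _ (Nat.coprime_two_right.2 hr)) (orderOf_dvd_of_pow_eq_one h1) h2)
  rw [hdj, one_mul] at hjv
  have hxv : x * v = v * x := mul_inv_eq_iff_eq_mul.1 hjv
  rcases cent_four hSC X.ot X.ov X.v_ne_t (X.t_comm X.vS) hxt hxv with h | h | h | h
  · exact h
  all_goals
    exfalso
    have h2 : x ^ 2 = 1 := by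
      subst h
      first
        | (rw [pow_two]; exact X.t_sq)
        | (rw [pow_two]; exact X.v_sq)
        | (rw [(Commute.mul_pow (X.t_comm X.vS).symm 2), pow_two, pow_two, X.t_sq, X.v_sq, one_mul])
    have h3 := orderOf_dvd_of_pow_eq_one h2
    rw [hxr] at h3
    rcases (Nat.dvd_prime Nat.prime_two).1 h3 with h4 | h4
    · rw [h4] at hxr
      have hx1 := orderOf_eq_one_iff.1 hxr
      rw [hx1] at h
      first
        | exact (CfsgLib.Invol.ne_one_of_orderOf_two X.ot) h.symm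
        | exact (CfsgLib.Invol.ne_one_of_orderOf_two X.ov) h.symm
        | exact X.v_ne_t (inv_injective (by rw [eq_inv_of_mul_eq_one_right h.symm, inv_inv, inv_eq_of_mul_eq_one_left X.t_sq]))
    · rw [h4] at hr
      exact absurd hr (by decide)

theorem cent_eq (X : Ctx S c t v) (hSC : SelfCentNoncyclic G) :
    Subgroup.centralizer ({t} : Set G) = (S : Subgroup G) := by
  haveI : Fact (Nat.Prime 2) := ⟨Nat.prime_two⟩
  have hSM : (S : Subgroup G) ≤ Subgroup.centralizer ({t} : Set G) := fun x hx =>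
    Subgroup.mem_centralizer_singleton_iff.2 (X.t_comm hx)
  refine S.3 ?_ hSM
  have key : ∀ x : G, x * t = t * x → ∀ r : ℕ, Odd r → orderOf x = r → x = 1 := by
    intro x hxt r hr hxr
    rcases X.action hSC with hA | hB
    · refine X.not_odd hSC (Subgroup.mem_zpowers c) ?_ (fun y hy h => ?_) hxt hr hxr
      · refine orderOf_eq_prime ?_ fun e => X.vc ?_
        · simpa [pow_two] using X.dih_sq hA 1
        · rw [eq_inv_of_mul_eq_one_right e]; exact inv_mem (Subgroup.mem_zpowers c)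
      · rcases X.split y hy with h1 | h1
        · exact Or.inl (X.invol_eq h1 h)
        · exact Or.inr h1
    · refine X.not_odd hSC (zpow_mem (Subgroup.mem_zpowers c) 2) ?_
        (fun y hy h => ?_) hxt hr hxr
      · refine orderOf_eq_prime ?_ fun e => X.vc ?_
        · rw [pow_two, X.semi_sq hB, show t ^ (2 : ℤ) = 1 by
            rw [show (2 : ℤ) = ((2 : ℕ) : ℤ) from rfl, zpow_natCast, pow_two, X.t_sq]]
        · rw [eq_inv_of_mul_eq_one_right e]
          exact inv_mem (zpow_mem (Subgroup.mem_zpowers c) 2)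
      · rcases X.invol_form hy h with h1 | ⟨i, rfl⟩
        · exact Or.inl h1
        · right
          rw [mul_inv_cancel_right]
          obtain ⟨k, rfl | rfl⟩ := Int.even_or_odd' i
          · exact ⟨k, by simp only; rw [← zpow_mul]⟩
          · exfalso
            have h1 := X.semi_sq hB (2 * k + 1)
            rw [← pow_two, ← h, pow_orderOf_eq_one, zpow_add, zpow_mul,
              show t ^ (2 : ℤ) = 1 by
                rw [show (2 : ℤ) = ((2 : ℕ) : ℤ) from rfl, zpow_natCast, pow_two, X.t_sq],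
              one_zpow, one_mul, zpow_one] at h1
            exact CfsgLib.Invol.ne_one_of_orderOf_two X.ot h1.symm
  intro g
  obtain ⟨a, m, hm, he⟩ := Nat.exists_eq_two_pow_mul_odd (orderOf_pos g).ne'
  refine ⟨a, ?_⟩
  have h1 : ((g : G) ^ 2 ^ a) = 1 := by
    refine key _ ?_ m hm ?_
    · exact Commute.pow_left (Subgroup.mem_centralizer_singleton_iff.1 g.2) _
    · rw [← Subgroup.coe_pow, Subgroup.orderOf_coe,
        orderOf_pow_of_dvd (by positivity) (he ▸ dvd_mul_right _ _), he,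
        Nat.mul_div_cancel_left _ (by positivity)]
  exact Subtype.ext (by simpa using h1)

end Ctx

end CfsgLib.PGroup.SelfCentSimple
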